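import Cfsg.Agent.H734.RB.Cyc
import Cfsg.Agent.H317.PQ.Defs
import Cfsg.Agent.Blocks.ExistsModular
import Cfsg.Agent.Blocks.CentralProduct
import Cfsg.Agent.Blocks.Knorr

/-!
# Cyclic Sylow `p`-subgroups, inertial index dividing 3 (helper61, S4612)

* `exists_struct` : the principal block, given an irreducible character equal to `-1` on the `p`-singular elements;
* `exists_third` : a second such character `χw`: it is the third non-exceptional character and the exceptional ones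
  have degree `χs(1) + χw(1) - 1`;
* `relIndex_dvd_three`.
-/

set_option autoImplicit false
set_option linter.unusedSectionVars false

namespace Cfsg.Agent.H61.PQ

open Cfsg Subgroup
open scoped ComplexConjugate
open Cfsg.Agent.Characters.Core Cfsg.Agent.H317.PQ

universe u

variable {G : Type u} [Group G] [Finite G] {p l : ℕ}

/-- the structure of the principal block -/
theorem exists_struct [hp : Fact p.Prime] (P : Sylow p G) (hcyc : IsCyclic (P : Subgroup G)) (hpG : p ∣ Nat.card G)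
    (hp5 : 5 ≤ p)
    (he3 : (centralizer ((P : Subgroup G) : Set G)).relIndex (normalizer ((P : Subgroup G) : Set G)) ∣ 3)
    (χs : IrrCharacter G) (hs1 : (χs : G → ℂ) ≠ 1) (hsing : ∀ g : G, p ∣ orderOf g → (χs : G → ℂ) g = -1) :
    ∃ (b : IrrCharacter G) (Y : Set (IrrCharacter G)) (ψ : IrrCharacter G) (ε ε' : ℤ) (one : IrrCharacter G),
      (one : G → ℂ) = 1 ∧
      (centralizer ((P : Subgroup G) : Set G)).relIndex (normalizer ((P : Subgroup G) : Set G)) = 3 ∧ b ≠ one ∧ b ≠ χs ∧ one ∉ Y ∧ χs ∉ Y ∧ b ∉ Y ∧ B0 p G = insert one (insert χs (insert b Y)) ∧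
      3 * Nat.card Y + 1 = Nat.card (P : Subgroup G) ∧ 2 ≤ Nat.card Y ∧ ψ ∈ Y ∧ (ε = 1 ∨ ε = -1) ∧ (ε' = 1 ∨ ε' = -1) ∧
      (∀ ψ' ∈ Y, ∀ g : G, ¬ p ∣ orderOf g → (ψ' : G → ℂ) g = (ψ : G → ℂ) g) ∧
      ∀ g : G, ¬ p ∣ orderOf g → (ε' : ℂ) * (ψ : G → ℂ) g + 1 - (χs : G → ℂ) g + (ε : ℂ) * (b : G → ℂ) g = 0 := by
  classical
  obtain ⟨M, hM⟩ := Blocks.ExistsModular.exists_isPModular hp.out
  have hMp := Blocks.Local.isPrime_of_isPModular hM
  obtain ⟨a, ha⟩ := (IsPGroup.iff_card).1 P.isPGroup'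
  have ha1 : 1 ≤ a := by
    by_contra h
    have h0 : a = 0 := by omega
    have h1 : p ∣ Nat.card (P : Subgroup G) := P.dvd_card_of_dvd_card hpG
    rw [ha, h0, pow_zero] at h1
    exact hp.out.one_lt.ne' (Nat.dvd_one.1 h1)
  set e0 := (centralizer ((P : Subgroup G) : Set G)).relIndex (normalizer ((P : Subgroup G) : Set G)) with he0
  obtain ⟨hep, -, -, X, Y, hXY, hd, hX, hY, hagree, δ, δ₀, hδ, hδ₀, hrel⟩ := H734.RB.block hM P hcyc ha1 ha he0.symm
  have := Fintype.ofFinite G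
  have : Finite (IrrCharacter G) := finite_irr
  have := Fintype.ofFinite (IrrCharacter G)
  let one : IrrCharacter G := ⟨1, isIrr_one⟩
  have honeB : one ∈ principalBlock M G := by
    show SameBlock M _ _
    exact Blocks.Osima.sameBlock_refl hM _
  have hs1' : χs ≠ one := fun h => hs1 (congrArg Subtype.val h)
  -- the size of `Y`
  have he01 : e0 = 1 ∨ e0 = 3 := (Nat.dvd_prime Nat.prime_three).1 he3
  have hpa : p ≤ p ^ a := Nat.le_self_pow (by omega) p
  have hdvd : e0 ∣ p ^ a - 1 := hep.trans (by simpa using Nat.sub_dvd_pow_sub_pow p 1 a)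
  have hY2 : 2 ≤ Nat.card Y := by
    rw [hY]
    rcases he01 with h | h
    · rw [h, Nat.div_one]
      omega
    · rw [h] at hep hdvd ⊢
      have h7 : 7 ≤ p := by
        by_contra hlt
        have : p = 5 ∨ p = 6 := by omega
        rcases this with h5 | h6
        · rw [h5] at hep
          norm_num at hep
        · have := hp.out
          rw [h6] at this
          norm_num at this
      rw [Nat.le_div_iff_mul_le (by norm_num)]
      omega
  have hYother : ∀ c : IrrCharacter G, ∃ ψ ∈ Y, ψ ≠ c := by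
    intro c
    by_contra hcon
    push Not at hcon
    have h1 : Y ⊆ {c} := fun ψ hψ => hcon ψ hψ
    have h2 : Nat.card Y ≤ 1 := by
      rw [Nat.card_coe_set_eq]
      exact (Set.ncard_le_ncard h1 (Set.toFinite _)).trans (by rw [Set.ncard_singleton])
    omega
  -- the orthogonality with `1 + χs`
  have hXs : ∀ F : IrrCharacter G → ℂ, ∑ᶠ χ ∈ X, F χ = ∑ χ with χ ∈ X, F χ := by
    intro F
    rw [finsum_mem_eq_finite_toFinset_sum _ (Set.toFinite _)]
    refine Finset.sum_congr ?_ fun _ _ => rfl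
    ext
    simp
  have horth : ∀ ψ ∈ Y, (if ψ = one then (δ₀ : ℂ) else 0) + (if ψ = χs then (δ₀ : ℂ) else 0) +
      ((if one ∈ X then (δ one : ℂ) else 0) + (if χs ∈ X then (δ χs : ℂ) else 0)) = 0 := by
    intro ψ hψ
    have h1 : ∑ g : G, (((one : G → ℂ) g + (χs : G → ℂ) g) * conj ((δ₀ : ℂ) * (ψ : G → ℂ) g +
        ∑ᶠ χ ∈ X, (δ χ : ℂ) * (χ : G → ℂ) g)) = 0 := by
      refine Finset.sum_eq_zero fun g _ => ?_
      by_cases hg : p ∣ orderOf g
      · have h2 : (one : G → ℂ) g = 1 := rfl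
        rw [h2, hsing g hg]
        ring
      · rw [hrel ψ hψ g hg, map_zero, mul_zero]
    have h2 : ∀ θ η : IrrCharacter G, ∑ g : G, (θ : G → ℂ) g * conj ((η : G → ℂ) g) =
        if η = θ then (Nat.card G : ℂ) else 0 := by
      intro θ η
      have h3 := classInner_irr θ.2 η.2
      rw [classInner_def, inv_mul_eq_iff_eq_mul₀ card_ne_zero_complex] at h3
      rw [h3]
      by_cases h4 : (θ : G → ℂ) = (η : G → ℂ)
      · rw [if_pos h4, if_pos (Subtype.ext h4).symm, mul_one]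
      · rw [if_neg h4, if_neg (fun h5 => h4 (congrArg Subtype.val h5).symm), mul_zero]
    have h3 : ∀ g : G, ((one : G → ℂ) g + (χs : G → ℂ) g) * conj ((δ₀ : ℂ) * (ψ : G → ℂ) g +
        ∑ᶠ χ ∈ X, (δ χ : ℂ) * (χ : G → ℂ) g) =
        (δ₀ : ℂ) * ((one : G → ℂ) g * conj ((ψ : G → ℂ) g)) + (δ₀ : ℂ) * ((χs : G → ℂ) g * conj ((ψ : G → ℂ) g)) +
        ∑ χ with χ ∈ X, ((δ χ : ℂ) * ((one : G → ℂ) g * conj ((χ : G → ℂ) g)) +
          (δ χ : ℂ) * ((χs : G → ℂ) g * conj ((χ : G → ℂ) g))) := by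
      intro g
      rw [hXs, map_add, map_mul, map_sum, mul_add, Finset.mul_sum]
      congr 1
      · rw [map_intCast]
        ring
      · refine Finset.sum_congr rfl fun χ _ => ?_
        rw [map_mul, map_intCast]
        ring
    rw [Finset.sum_congr rfl fun g _ => h3 g, Finset.sum_add_distrib, Finset.sum_add_distrib, ← Finset.mul_sum,
      ← Finset.mul_sum, Finset.sum_comm] at h1
    have h4 : ∀ χ : IrrCharacter G, ∑ g : G, ((δ χ : ℂ) * ((one : G → ℂ) g * conj ((χ : G → ℂ) g)) +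
          (δ χ : ℂ) * ((χs : G → ℂ) g * conj ((χ : G → ℂ) g))) =
        (if χ = one then (δ χ : ℂ) * Nat.card G else 0) + (if χ = χs then (δ χ : ℂ) * Nat.card G else 0) := by
      intro χ
      rw [Finset.sum_add_distrib, ← Finset.mul_sum, ← Finset.mul_sum, h2, h2, mul_ite, mul_ite, mul_zero]
    rw [Finset.sum_congr rfl fun χ _ => h4 χ, Finset.sum_add_distrib, Finset.sum_ite_eq', Finset.sum_ite_eq', h2, h2] at h1
    have hc : (Nat.card G : ℂ) ≠ 0 := card_ne_zero_complex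
    simp only [Finset.mem_filter, Finset.mem_univ, true_and] at h1
    apply mul_right_cancel₀ hc
    rw [zero_mul]
    refine Eq.trans ?_ h1
    split_ifs <;> ring
  have hδne : ∀ χ ∈ X, (δ χ : ℂ) ≠ 0 := by
    intro χ hχ
    rcases hδ χ hχ with h | h <;> rw [h] <;> norm_num
  have hδ₀ne : (δ₀ : ℂ) ≠ 0 := by
    rcases hδ₀ with h | h <;> rw [h] <;> norm_num
  -- `1 ∈ X`
  have honeX : one ∈ X := by
    by_contra hno
    have h1Y : one ∈ Y := by
      rw [hXY] at honeB
      exact honeB.resolve_left hno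
    have h1 := horth one h1Y
    rw [if_pos rfl, if_neg (Ne.symm hs1'), if_neg hno, add_zero, zero_add] at h1
    obtain ⟨ψ, hψ, hψ1⟩ := hYother one
    have h2 := horth ψ hψ
    rw [if_neg hψ1, if_neg hno, zero_add] at h2
    by_cases hsX : χs ∈ X
    · rw [if_pos hsX] at h1 h2
      have hψs : ψ ≠ χs := by
        rintro rfl
        exact Set.disjoint_left.1 hd hsX hψ
      rw [if_neg hψs, zero_add, zero_add] at h2
      exact hδne _ hsX h2
    · rw [if_neg hsX, add_zero] at h1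
      exact hδ₀ne h1
  obtain ⟨hsX, hsgn⟩ : χs ∈ X ∧ (δ χs : ℂ) = -(δ one : ℂ) := by
    obtain ⟨ψ, hψ, hψs⟩ := hYother χs
    have hψ1 : ψ ≠ one := by
      rintro rfl
      exact Set.disjoint_left.1 hd honeX hψ
    have h1 := horth ψ hψ
    rw [if_neg hψ1, if_neg hψs, if_pos honeX, add_zero, zero_add] at h1
    by_cases hsX : χs ∈ X
    · rw [if_pos hsX] at h1
      exact ⟨hsX, by linear_combination h1⟩
    · rw [if_neg hsX, add_zero] at h1
      exact absurd h1 (hδne _ honeX)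
  have hsgn' : δ χs = -δ one := by exact_mod_cast hsgn
  -- `e0 = 3`
  have he03 : e0 = 3 := by
    rcases he01 with h | h
    · exfalso
      rw [h] at hX
      rw [Nat.card_coe_set_eq, Set.ncard_eq_one] at hX
      obtain ⟨c, hc⟩ := hX
      rw [hc] at honeX hsX
      exact hs1' ((Set.mem_singleton_iff.1 hsX).trans (Set.mem_singleton_iff.1 honeX).symm)
    · exact h
  rw [he03] at hX hY hdvd
  obtain ⟨b, hbX, hXeq⟩ : ∃ b, (b ≠ one ∧ b ≠ χs) ∧ X = insert one (insert χs {b}) := by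
    have h1 : (X \ {one, χs}).ncard = 1 := by
      rw [Set.ncard_sdiff (by
        rintro c hc
        rcases hc with rfl | hc
        · exact honeX
        · rw [Set.mem_singleton_iff.1 hc]; exact hsX) (Set.toFinite _), Set.ncard_pair (Ne.symm hs1')]
      rw [Nat.card_coe_set_eq] at hX
      omega
    obtain ⟨b, hb⟩ := Set.ncard_eq_one.1 h1
    have hbm : b ∈ X \ {one, χs} := by rw [hb]; rfl
    refine ⟨b, ⟨fun h => hbm.2 (Or.inl h), fun h => hbm.2 (Or.inr h)⟩, ?_⟩
    ext c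
    constructor
    · intro hc
      by_cases h2 : c = one
      · exact Or.inl h2
      by_cases h3 : c = χs
      · exact Or.inr (Or.inl h3)
      · have h4 : c ∈ X \ {one, χs} := ⟨hc, by rintro (h | h); exacts [h2 h, h3 h]⟩
        rw [hb] at h4
        exact Or.inr (Or.inr h4)
    · rintro (rfl | rfl | hc)
      · exact honeX
      · exact hsX
      · rw [Set.mem_singleton_iff.1 hc]
        exact hbm.1
  have hbX' : b ∈ X := by rw [hXeq]; exact Or.inr (Or.inr rfl)
  obtain ⟨ψ, hψ, -⟩ := hYother one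
  have hδ1 : δ one * δ one = 1 := by
    rcases hδ _ honeX with h | h <;> rw [h] <;> norm_num
  refine ⟨b, Y, ψ, δ one * δ b, δ one * δ₀, one, rfl, he0.symm.trans he03, hbX.1, hbX.2, Set.disjoint_left.1 hd honeX,
    Set.disjoint_left.1 hd hsX, Set.disjoint_left.1 hd hbX', ?_, ?_, hY2, hψ, ?_, ?_, ?_, ?_⟩
  · rw [B0_eq hp.out hM, hXY, hXeq, Set.insert_union, Set.insert_union, Set.singleton_union]
  · rw [hY, ha, Nat.mul_div_cancel' hdvd]
    omega
  · rcases hδ _ honeX with h | h <;> rcases hδ _ hbX' with h' | h' <;> rw [h, h'] <;> norm_num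
  · rcases hδ _ honeX with h | h <;> rcases hδ₀ with h' | h' <;> rw [h, h'] <;> norm_num
  · intro ψ' hψ' g hg
    exact hagree ψ' hψ' ψ hψ g hg
  · intro g hg
    have h1 := hrel ψ hψ g hg
    have h2 : ∑ᶠ χ ∈ X, (δ χ : ℂ) * (χ : G → ℂ) g =
        (δ one : ℂ) * 1 + ((δ χs : ℂ) * (χs : G → ℂ) g + (δ b : ℂ) * (b : G → ℂ) g) := by
      rw [hXeq, finsum_mem_insert _ (by
        rintro (h | h)
        · exact hs1' h.symm
        · exact hbX.1 (Set.mem_singleton_iff.1 h).symm) (Set.toFinite _), finsum_mem_insert _ (by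
        intro h
        exact hbX.2 (Set.mem_singleton_iff.1 h).symm) (Set.toFinite _), finsum_mem_singleton]
      rfl
    rw [h2, hsgn'] at h1
    have h3 : (δ one : ℂ) * (δ one : ℂ) = 1 := by exact_mod_cast hδ1
    push_cast at h1 ⊢
    linear_combination (δ one : ℂ) * h1 - (1 - (χs : G → ℂ) g) * h3

/-- **a second character equal to `-1` on the `p`-singular elements** -/
theorem exists_third [hp : Fact p.Prime] (P : Sylow p G) (hcyc : IsCyclic (P : Subgroup G)) (hpG : p ∣ Nat.card G)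
    (hp5 : 5 ≤ p)
    (he3 : (centralizer ((P : Subgroup G) : Set G)).relIndex (normalizer ((P : Subgroup G) : Set G)) ∣ 3)
    (χs : IrrCharacter G) (hs1 : (χs : G → ℂ) ≠ 1) (hsing : ∀ g : G, p ∣ orderOf g → (χs : G → ℂ) g = -1)
    (χw : IrrCharacter G) (hw1 : (χw : G → ℂ) ≠ 1) (hws : χw ≠ χs)
    (hwing : ∀ g : G, p ∣ orderOf g → (χw : G → ℂ) g = -1) {d : ℕ} (hd0 : 0 < d)
    (hd : (χs : G → ℂ) 1 + (χw : G → ℂ) 1 = d + 1) :
    ∃ ψ ∈ B0 p G, (ψ : G → ℂ) 1 = d := by
  classical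
  have := Fintype.ofFinite G
  obtain ⟨b, Y, ψ, ε, ε', one, hone, -, hb1, hbs, honeY, hsY, hbY, hB, hY, hY2, hψ, hε, hε', hagree, hrel⟩ :=
    exists_struct P hcyc hpG hp5 he3 χs hs1 hsing
  have hs1' : one ≠ χs := fun h => hs1 (by rw [← h, hone])
  have hw1' : one ≠ χw := fun h => hw1 (by rw [← h, hone])
  have hψ1 : ∀ ψ' ∈ Y, ψ' ≠ one := fun ψ' h h' => honeY (h' ▸ h)
  have hψb : ∀ ψ' ∈ Y, ψ' ≠ b := fun ψ' h h' => hbY (h' ▸ h)
  have h2 : ∀ θ η : IrrCharacter G, ∑ g : G, (θ : G → ℂ) g * conj ((η : G → ℂ) g) =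
      if η = θ then (Nat.card G : ℂ) else 0 := by
    intro θ η
    have h3 := classInner_irr θ.2 η.2
    rw [classInner_def, inv_mul_eq_iff_eq_mul₀ card_ne_zero_complex] at h3
    rw [h3]
    by_cases h4 : (θ : G → ℂ) = (η : G → ℂ)
    · rw [if_pos h4, if_pos (Subtype.ext h4).symm, mul_one]
    · rw [if_neg h4, if_neg (fun h5 => h4 (congrArg Subtype.val h5).symm), mul_zero]
  have hc : (Nat.card G : ℂ) ≠ 0 := card_ne_zero_complex
  -- the orthogonality with `1 + χw`
  have horth : ∀ ψ' ∈ Y, (1 : ℂ) + (if b = χw then (ε : ℂ) else 0) + (if ψ' = χw then (ε' : ℂ) else 0) = 0 := by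
    intro ψ' hψ'
    have h1 : ∑ g : G, (((one : G → ℂ) g + (χw : G → ℂ) g) * conj ((ε' : ℂ) * (ψ' : G → ℂ) g + (one : G → ℂ) g -
        (χs : G → ℂ) g + (ε : ℂ) * (b : G → ℂ) g)) = 0 := by
      refine Finset.sum_eq_zero fun g _ => ?_
      by_cases hg : p ∣ orderOf g
      · have h2 : (one : G → ℂ) g = 1 := by rw [hone]; rfl
        rw [h2, hwing g hg]
        ring
      · have h3 := hrel g hg
        rw [← hagree ψ' hψ' g hg] at h3
        have h4 : (one : G → ℂ) g = 1 := by rw [hone]; rfl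
        rw [h4, h3, map_zero, mul_zero]
    have h3 : ∀ g : G, ((one : G → ℂ) g + (χw : G → ℂ) g) * conj ((ε' : ℂ) * (ψ' : G → ℂ) g + (one : G → ℂ) g -
        (χs : G → ℂ) g + (ε : ℂ) * (b : G → ℂ) g) =
        (ε' : ℂ) * ((one : G → ℂ) g * conj ((ψ' : G → ℂ) g)) + (ε' : ℂ) * ((χw : G → ℂ) g * conj ((ψ' : G → ℂ) g)) +
        ((one : G → ℂ) g * conj ((one : G → ℂ) g) + (χw : G → ℂ) g * conj ((one : G → ℂ) g)) -
        ((one : G → ℂ) g * conj ((χs : G → ℂ) g) + (χw : G → ℂ) g * conj ((χs : G → ℂ) g)) +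
        ((ε : ℂ) * ((one : G → ℂ) g * conj ((b : G → ℂ) g)) + (ε : ℂ) * ((χw : G → ℂ) g * conj ((b : G → ℂ) g))) := by
      intro g
      rw [map_add, map_sub, map_add, map_mul, map_mul, map_intCast, map_intCast]
      ring
    rw [Finset.sum_congr rfl fun g _ => h3 g] at h1
    simp only [Finset.sum_add_distrib, Finset.sum_sub_distrib, ← Finset.mul_sum, h2] at h1
    rw [if_neg (hψ1 ψ' hψ'), if_true, if_neg hw1', if_neg hs1'.symm, if_neg (Ne.symm hws), if_neg hb1] at h1
    apply mul_right_cancel₀ hc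
    rw [zero_mul]
    refine Eq.trans ?_ h1
    split_ifs <;> ring
  -- `χw = b`
  have hwb : b = χw := by
    by_contra hne
    have h3 : ∀ ψ' ∈ Y, ψ' = χw := by
      intro ψ' hψ'
      by_contra h4
      have h5 := horth ψ' hψ'
      rw [if_neg hne, if_neg h4] at h5
      norm_num at h5
    have h4 : Y ⊆ {χw} := fun ψ' hψ' => h3 ψ' hψ'
    have : Finite (IrrCharacter G) := finite_irr
    have h5 : Nat.card Y ≤ 1 := by
      rw [Nat.card_coe_set_eq]
      exact (Set.ncard_le_ncard h4 (Set.toFinite _)).trans (by rw [Set.ncard_singleton])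
    omega
  have h3 := horth ψ hψ
  rw [if_pos hwb, if_neg (fun h => hψb ψ hψ (h.trans hwb.symm)), add_zero] at h3
  have h1p : ¬ p ∣ orderOf (1 : G) := by
    rw [orderOf_one]
    exact hp.out.one_lt.ne' ∘ Nat.dvd_one.1
  have r1 := hrel 1 h1p
  rw [hwb] at r1
  have h4 : (ε' : ℂ) * (ψ : G → ℂ) 1 = d := by linear_combination r1 + hd - (χw : G → ℂ) 1 * h3
  refine ⟨ψ, by rw [hB]; exact Or.inr (Or.inr (Or.inr hψ)), ?_⟩
  obtain ⟨n, hn0, hn⟩ := isIrr_apply_one ψ.2
  rcases hε' with h5 | h5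
  · rw [h5, Int.cast_one, one_mul] at h4
    exact h4
  · exfalso
    rw [h5, hn] at h4
    have h6 : (-1 : ℤ) * (n : ℤ) = d := by exact_mod_cast h4
    omega

/-- the inertial index of a cyclic Sylow `p`-subgroup, `p` odd, divides `3` -/
theorem relIndex_dvd_three [hp : Fact p.Prime] (hp2 : p ≠ 2) (P : Sylow p G) (hcyc : IsCyclic (P : Subgroup G))
    (h3 : ∀ n ∈ normalizer ((P : Subgroup G) : Set G), n ^ 3 ∈ centralizer ((P : Subgroup G) : Set G)) :
    (centralizer ((P : Subgroup G) : Set G)).relIndex (normalizer ((P : Subgroup G) : Set G)) ∣ 3 := by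
  classical
  obtain ⟨a, ha⟩ := (IsPGroup.iff_card).1 P.isPGroup'
  have hA : IsCyclic (MulAut (P : Subgroup G)) := by
    have e1 : MulAut (P : Subgroup G) ≃* (ZMod (Nat.card (P : Subgroup G)))ˣ := IsCyclic.mulAutMulEquiv _
    have h1 : IsCyclic (ZMod (Nat.card (P : Subgroup G)))ˣ := by
      rw [ha]
      exact ZMod.isCyclic_units_of_prime_pow p hp.out hp2 a
    exact isCyclic_of_surjective e1.symm e1.symm.surjective
  set f := Subgroup.normalizerMonoidHom (P : Subgroup G) with hf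
  have h1 : (centralizer ((P : Subgroup G) : Set G)).relIndex (normalizer ((P : Subgroup G) : Set G)) =
      Nat.card f.range := by
    rw [Subgroup.relIndex, ← Subgroup.index_ker, hf, Subgroup.normalizerMonoidHom_ker]
  rw [h1]
  have h2 : IsCyclic f.range := inferInstance
  obtain ⟨g, hg⟩ := h2.exists_ofOrder_eq_natCard
  rw [← hg]
  apply orderOf_dvd_of_pow_eq_one
  obtain ⟨g, ⟨n, rfl⟩⟩ := g
  apply Subtype.ext
  show (f n) ^ 3 = 1
  rw [← map_pow, ← MonoidHom.mem_ker, hf, Subgroup.normalizerMonoidHom_ker, Subgroup.mem_subgroupOf]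
  exact h3 n n.2

end Cfsg.Agent.H61.PQ
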