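import Cfsg.Agent.H139.Cusp.Bridge
import Cfsg.Agent.H139.Cusp.FieldSum

/-!
# The Coxeter torus of `GL_n` and the values of the cuspidal characters (helper61, S4612)

* `mulE ξ` : the multiplication by `ξ ∈ L^*` as an element of `L ≃ₗ[F] L`;
* `exists_mulE` : the elements commuting with `mulE ξ`, `ξ` a generator of `L / F`, are the `mulE η`;
* `cusp_mulE` : the value of `cusp L θ` at `mulE ξ`, `ξ` a generator.
-/

set_option autoImplicit false

open Polynomial Cfsg

namespace Cfsg.Agent.H61.PQ

open Cfsg.Agent.H139.Cusp Cfsg.Agent.H53.HC Module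

universe u w

variable {F : Type u} [Field F] {L : Type w} [Field L] [Algebra F L]

/-- the multiplication by `ξ` -/
def mulE (F : Type u) [Field F] {L : Type w} [Field L] [Algebra F L] : Lˣ →* (L ≃ₗ[F] L) where
  toFun ξ :=
    { toFun := fun v => ξ * v
      invFun := fun v => (ξ⁻¹ : Lˣ) * v
      left_inv := fun v => Units.inv_mul_cancel_left ξ v
      right_inv := fun v => Units.mul_inv_cancel_left ξ v
      map_add' := fun x y => mul_add _ _ _
      map_smul' := fun c x => by rw [mul_smul_comm, RingHom.id_apply] }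
  map_one' := by
    ext v
    exact one_mul v
  map_mul' ξ η := by
    ext v
    show ((ξ * η : Lˣ) : L) * v = ξ * (η * v)
    rw [Units.val_mul, mul_assoc]

@[simp] theorem mulE_apply (ξ : Lˣ) (v : L) : mulE F ξ v = ξ * v := rfl

theorem mulE_injective : Function.Injective (mulE F (L := L)) := by
  intro ξ η h
  have h1 := congrArg (fun e : L ≃ₗ[F] L => e 1) h
  simp only [mulE_apply, mul_one] at h1
  exact Units.ext h1

/-- the elements commuting with a generator -/
theorem exists_mulE [Finite L] {ξ : Lˣ} (hξ : (minpoly F (ξ : L)).natDegree = finrank F L) {g : L ≃ₗ[F] L}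
    (hg : g * mulE F ξ = mulE F ξ * g) : ∃ η : Lˣ, g = mulE F η := by
  have hfin : FiniteDimensional F L := inferInstance
  have hg' : ∀ v, g (ξ * v) = ξ * g v := fun v => congrArg (fun e : L ≃ₗ[F] L => e v) hg
  let C : IntermediateField F L :=
    { carrier := {a | ∀ v, g (a * v) = a * g v}
      mul_mem' := fun {a b} ha hb v => by rw [mul_assoc, ha, hb, mul_assoc]
      add_mem' := fun {a b} ha hb v => by rw [add_mul, map_add, ha, hb, add_mul]
      algebraMap_mem' := fun c v => by rw [← Algebra.smul_def, ← Algebra.smul_def, map_smul]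
      inv_mem' := fun a ha v => by
        by_cases h0 : a = 0
        · rw [h0, inv_zero, zero_mul, zero_mul, map_zero]
        · have h1 := ha (a⁻¹ * v)
          rw [← mul_assoc, mul_inv_cancel₀ h0, one_mul] at h1
          rw [h1, ← mul_assoc, inv_mul_cancel₀ h0, one_mul] }
  have hC : C = ⊤ := by
    have h1 : IntermediateField.adjoin F {(ξ : L)} = ⊤ :=
      (Field.primitive_element_iff_minpoly_natDegree_eq F (ξ : L)).2 hξ
    rw [eq_top_iff, ← h1, IntermediateField.adjoin_le_iff, Set.singleton_subset_iff]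
    exact hg'
  have h1 : ∀ a, g a = a * g 1 := by
    intro a
    have h2 : a ∈ C := by rw [hC]; trivial
    have h3 := h2 1
    rwa [mul_one] at h3
  have h2 : g 1 ≠ 0 := by
    intro h
    exact one_ne_zero ((map_eq_zero_iff g g.injective).1 h)
  refine ⟨Units.mk0 (g 1) h2, ?_⟩
  ext v
  rw [mulE_apply, Units.val_mk0, h1 v, mul_comm]

theorem aeval_mulE (ξ : Lˣ) (p : F[X]) (v : L) : aeval (mulE F ξ : L →ₗ[F] L) p v = aeval (ξ : L) p * v := by
  induction p using Polynomial.induction_on generalizing v with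
  | C a => rw [aeval_C, aeval_C, Module.algebraMap_end_apply, Algebra.smul_def]
  | add p q hp hq => rw [map_add, map_add, LinearMap.add_apply, hp, hq, add_mul]
  | monomial n a h =>
    have h1 : aeval (mulE F ξ : L →ₗ[F] L) (C a * X ^ (n + 1)) v =
        aeval (mulE F ξ : L →ₗ[F] L) (C a * X ^ n) ((ξ : L) * v) := by
      rw [pow_succ, ← mul_assoc, map_mul, Module.End.mul_apply, aeval_X]
      rfl
    rw [h1, h, ← mul_assoc, pow_succ, ← mul_assoc (C a), map_mul (aeval (ξ : L)) (C a * X ^ n) X, aeval_X]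

theorem charpoly_mulE [Finite L] {ξ : Lˣ} (hξ : (minpoly F (ξ : L)).natDegree = finrank F L) :
    (mulE F ξ : L →ₗ[F] L).charpoly = minpoly F (ξ : L) := by
  have hfin : FiniteDimensional F L := inferInstance
  have h1 : aeval (ξ : L) (mulE F ξ : L →ₗ[F] L).charpoly = 0 := by
    have h2 := LinearMap.aeval_self_charpoly (mulE F ξ : L →ₗ[F] L)
    have h4 := aeval_mulE ξ (mulE F ξ : L →ₗ[F] L).charpoly 1
    rw [h2, LinearMap.zero_apply, mul_one] at h4
    exact h4.symm
  have hm : (minpoly F (ξ : L)).Monic := minpoly.monic (Algebra.IsIntegral.isIntegral (ξ : L))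
  have hd : minpoly F (ξ : L) ∣ (mulE F ξ : L →ₗ[F] L).charpoly := minpoly.dvd F _ h1
  exact Polynomial.eq_of_monic_of_dvd_of_natDegree_le hm
    (LinearMap.charpoly_monic _) hd (by rw [LinearMap.charpoly_natDegree, hξ])

/-- **the value** at a generator -/
theorem cusp_mulE [Finite F] [Finite L] (θ : L →*₀ ℂ) {ξ : Lˣ} (hξ : (minpoly F (ξ : L)).natDegree = finrank F L) :
    cusp L θ (mulE F ξ : L →ₗ[F] L) =
      (-1) ^ (finrank F L - 1) * ∑ i ∈ Finset.range (finrank F L), θ ((ξ : L) ^ (Nat.card F ^ i)) := by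
  have hcp := charpoly_mulE hξ
  rw [cusp_of_irreducible L θ (by rw [hcp]; exact minpoly.irreducible (Algebra.IsIntegral.isIntegral (ξ : L))), hcp,
    lb_minpoly, hξ]

end Cfsg.Agent.H61.PQ
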